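import Mathlib

/-! An irreducible representation of degree at least two is non-trivial on every generating set. -/

set_option autoImplicit false

namespace CfsgLib.KnownA.MinDegree

variable {G : Type*} [Group G] {k : ℕ}

theorem exists_moved (π : Representation ℂ G (Fin k → ℂ)) (hirr : π.IsIrreducible) (hk : 2 ≤ k) :
    ∃ g x, π g x ≠ x := by
  by_contra hc
  push Not at hc
  let ρ0 : Subrepresentation π :=
    { toSubmodule := Submodule.span ℂ {Pi.single ⟨0, by omega⟩ 1}
      apply_mem_toSubmodule := fun g v hv => by rwa [hc g v] }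
  have hne : ρ0 ≠ ⊥ := by
    intro h0
    have h1 : (Pi.single ⟨0, by omega⟩ 1 : Fin k → ℂ) ∈ ρ0.toSubmodule := Submodule.subset_span rfl
    rw [h0] at h1
    have h2 := congrFun ((Submodule.mem_bot ℂ).mp h1) ⟨0, by omega⟩
    simp at h2
  have htop := hirr.eq_bot_or_eq_top ρ0 |>.resolve_left hne
  have h1 : (Pi.single ⟨1, by omega⟩ 1 : Fin k → ℂ) ∈ ρ0.toSubmodule := by rw [htop]; trivial
  obtain ⟨a, ha⟩ := Submodule.mem_span_singleton.mp h1
  have h2 := congrFun ha ⟨1, by omega⟩
  simp [Fin.ext_iff] at h2

/-- Some element of a generating set moves a vector. -/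
theorem exists_moved_of_generator (π : Representation ℂ G (Fin k → ℂ)) (hirr : π.IsIrreducible)
    (hk : 2 ≤ k) (S : Set G) (hS : ∀ H : Subgroup G, (∀ s ∈ S, s ∈ H) → H = ⊤) :
    ∃ s ∈ S, ∃ x, π s x ≠ x := by
  by_contra hc
  push Not at hc
  let H : Subgroup G :=
    { carrier := {g | ∀ x, π g x = x}
      mul_mem' := fun {a b} ha hb x => by
        show π (a * b) x = x
        rw [map_mul, Module.End.mul_apply, hb, ha]
      one_mem' := fun x => by
        show π 1 x = x
        rw [map_one]; rfl
      inv_mem' := fun {a} ha x => by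
        show π a⁻¹ x = x
        conv_lhs => rw [← ha x]
        rw [← Module.End.mul_apply, ← map_mul, inv_mul_cancel, map_one]
        rfl }
  obtain ⟨g, x, hg⟩ := exists_moved π hirr hk
  exact hg ((hS H hc ▸ Subgroup.mem_top g : g ∈ H) x)

end CfsgLib.KnownA.MinDegree
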